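import Mathlib
import Cfsg.Agent.Helper5.VL.Defs
import Cfsg.Agent.Helper5.VL.IHyp
import Cfsg.Agent.Helper1.Breadth

/-! s3777pieces COST + ZCOMM (helper9). -/

set_option autoImplicit false
set_option linter.style.haveILetI false
set_option linter.unusedSectionVars false
set_option linter.unusedVariables false

namespace Cfsg.Agent.Helper5.VL

open Subgroup
open scoped commutatorElement

universe u
variable {p : ℕ} [Fact p.Prime] {G : Type u} [Group G] [Finite G]

/-- COST -/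
theorem cost_mul (K : Subgroup G) [K.Normal] (x : G) :
    (centralizer ({x} : Set G)).relIndex K * (K ⊔ centralizer ({x} : Set G)).index
      = (centralizer ({x} : Set G)).index := by
  rw [← Cfsg.Agent.Helper1.Breadth.relIndex_sup_eq (centralizer ({x} : Set G)) K, sup_comm K]
  exact Subgroup.relIndex_mul_index le_sup_left

/-- every `g` is `c ^ n * m` with `m ∈ ker φ`, if `c ∉ ker φ`. -/
theorem VL_aux_decomp {φ : Fn p G} {c : G} (hc : c ∉ φ.ker) (g : G) :
    ∃ n : ℕ, (c ^ n)⁻¹ * g ∈ φ.ker := by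
  have hpp : p.Prime := Fact.out
  have hφc : φ c ≠ 1 := fun h => hc (MonoidHom.mem_ker.mpr h)
  have hgen : ∀ y : Multiplicative (ZMod p), ∃ n : ℕ, (φ c) ^ n = y := by
    intro y
    have hcard : Nat.card (Multiplicative (ZMod p)) = p := by
      rw [Nat.card_eq_fintype_card, Fintype.card_multiplicative, ZMod.card]
    have hord : orderOf (φ c) = p := by
      have h1 : orderOf (φ c) ∣ p :=
        (orderOf_dvd_natCard (φ c)).trans (dvd_of_eq hcard)
      rcases (Nat.dvd_prime hpp).mp h1 with h | h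
      · exact absurd (orderOf_eq_one_iff.mp h) hφc
      · exact h
    have htop : Subgroup.zpowers (φ c) = ⊤ := by
      apply Subgroup.eq_top_of_card_eq
      rw [Nat.card_zpowers, hord, hcard]
    have hy : y ∈ Subgroup.zpowers (φ c) := by rw [htop]; trivial
    rw [← mem_powers_iff_mem_zpowers] at hy
    obtain ⟨n, hn⟩ := hy
    exact ⟨n, hn⟩
  obtain ⟨n, hn⟩ := hgen (φ g)
  refine ⟨n, ?_⟩
  rw [MonoidHom.mem_ker, map_mul, map_inv, map_pow, hn, inv_mul_cancel]

/-- `ker φ ⊔ ⟨c⟩ = ⊤` if `c ∉ ker φ`. -/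
theorem VL_aux_sup_top {φ : Fn p G} {c : G} (hc : c ∉ φ.ker) :
    φ.ker ⊔ Subgroup.zpowers c = ⊤ := by
  rw [eq_top_iff]
  intro g _
  obtain ⟨n, hm⟩ := VL_aux_decomp hc g
  have : g = c ^ n * ((c ^ n)⁻¹ * g) := by group
  rw [this]
  exact mul_mem (Subgroup.mem_sup_right (Subgroup.pow_mem _ (Subgroup.mem_zpowers c) n))
    (Subgroup.mem_sup_left hm)

/-- ZCOMM (F3) -/
theorem mem_Zs_of_comm {φ : Fn p G} {x c : G} (hx : x ∈ φ.ker) (hc : c ∉ φ.ker)
    (hcomm : c * x = x * c) : x ∈ Zs φ := by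
  rw [mem_Zs]
  refine ⟨hx, ?_⟩
  -- the set of `g` with `⁅x, g⁆ ∈ M'` is a subgroup
  have hN : (⁅φ.ker, φ.ker⁆ : Subgroup G).Normal := inferInstance
  let S : Subgroup G :=
    { carrier := {g | ⁅x, g⁆ ∈ (⁅φ.ker, φ.ker⁆ : Subgroup G)}
      one_mem' := by
        show ⁅x, (1 : G)⁆ ∈ (⁅φ.ker, φ.ker⁆ : Subgroup G)
        rw [commutatorElement_one_right]; exact one_mem _
      mul_mem' := by
        intro g h hg hh
        show ⁅x, g * h⁆ ∈ (⁅φ.ker, φ.ker⁆ : Subgroup G)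
        have : ⁅x, g * h⁆ = ⁅x, g⁆ * (g * ⁅x, h⁆ * g⁻¹) := by
          simp only [commutatorElement_def]; group
        rw [this]
        exact mul_mem hg (hN.conj_mem _ hh g)
      inv_mem' := by
        intro g hg
        show ⁅x, g⁻¹⁆ ∈ (⁅φ.ker, φ.ker⁆ : Subgroup G)
        have : ⁅x, g⁻¹⁆ = g⁻¹ * ⁅x, g⁆⁻¹ * g⁻¹⁻¹ := by
          simp only [commutatorElement_def]; group
        rw [this]
        exact hN.conj_mem _ (inv_mem hg) g⁻¹ }
  have hMS : φ.ker ≤ S := by
    intro m hm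
    show ⁅x, m⁆ ∈ (⁅φ.ker, φ.ker⁆ : Subgroup G)
    exact Subgroup.commutator_mem_commutator hx hm
  have hcS : c ∈ S := by
    show ⁅x, c⁆ ∈ (⁅φ.ker, φ.ker⁆ : Subgroup G)
    have : ⁅x, c⁆ = 1 := by
      rw [commutatorElement_eq_one_iff_mul_comm]; exact hcomm.symm
    rw [this]; exact one_mem _
  intro g
  obtain ⟨n, hm⟩ := VL_aux_decomp hc g
  have hgS : g ∈ S := by
    have : g = c ^ n * ((c ^ n)⁻¹ * g) := by group
    rw [this]
    exact S.mul_mem (S.pow_mem hcS n) (hMS hm)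
  exact hgS

end Cfsg.Agent.Helper5.VL
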