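import Mathlib
import Cfsg.Agent.Helper5.VL.Defs
import Cfsg.Agent.Helper5.VL.IHyp
import Cfsg.Agent.Helper9.VL.COST
import Cfsg.Agent.Helper18.VLMAXP

/-! s3777pieces ZINDEP (helper9). -/

set_option autoImplicit false
set_option linter.style.haveILetI false
set_option linter.unusedSectionVars false
set_option linter.unusedVariables false

namespace Cfsg.Agent.Helper5.VL

open Subgroup
open scoped commutatorElement

universe u
variable {p : ℕ} [Fact p.Prime] {G : Type u} [Group G] [Finite G]

/-- a group generated by one element together with central elements is commutative. -/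
theorem ZINDEP_aux_comm {Q : Type*} [Group Q] (q : Q)
    (h : Subgroup.center Q ⊔ Subgroup.zpowers q = ⊤) (a b : Q) : a * b = b * a := by
  -- `q` is central
  have hq : q ∈ Subgroup.center Q := by
    have hle : Subgroup.center Q ⊔ Subgroup.zpowers q ≤ Subgroup.centralizer ({q} : Set Q) := by
      apply sup_le
      · intro z hz
        rw [Subgroup.mem_centralizer_iff]
        intro y hy
        rw [Set.mem_singleton_iff] at hy
        rw [hy]
        exact (Subgroup.mem_center_iff.mp hz q)
      · rw [Subgroup.zpowers_le]
        rw [Subgroup.mem_centralizer_iff]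
        intro y hy
        rw [Set.mem_singleton_iff] at hy
        rw [hy]
    rw [h] at hle
    rw [Subgroup.mem_center_iff]
    intro y
    have := hle (Subgroup.mem_top y)
    rw [Subgroup.mem_centralizer_iff] at this
    exact (this q rfl).symm
  have htop : Subgroup.center Q = ⊤ := by
    rw [eq_top_iff, ← h]
    exact sup_le le_rfl (by rw [Subgroup.zpowers_le]; exact hq)
  have ha : a ∈ Subgroup.center Q := by rw [htop]; trivial
  exact ((Subgroup.mem_center_iff.mp ha) b).symm

/-- ZINDEP (F4) -/
theorem exists_indep_of_ne (hG : IsPGroup p G) {φ : Fn p G} (hφ : φ ≠ 1)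
    (hne : ⁅φ.ker, φ.ker⁆ ≠ commutator G) :
    ∃ ψ : Fn p G, Zs φ ≤ ψ.ker ∧ ¬ φ.ker ≤ ψ.ker := by
  classical
  -- an element outside `ker φ`
  have hex : ∃ g : G, g ∉ φ.ker := by
    by_contra hcon
    push Not at hcon
    apply hφ
    ext g
    have := hcon g
    rw [MonoidHom.mem_ker] at this
    rw [this]; rfl
  obtain ⟨g, hg⟩ := hex
  set N : Subgroup G := ⁅φ.ker, φ.ker⁆ with hN
  have hNn : N.Normal := by rw [hN]; infer_instance
  set H : Subgroup G := Zs φ ⊔ Subgroup.zpowers g with hH
  have hHtop : H ≠ ⊤ := by
    intro htop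
    apply hne
    apply le_antisymm
    · rw [_root_.commutator_def]
      exact Subgroup.commutator_mono le_top le_top
    · -- `G ⧸ N` is commutative
      set π := QuotientGroup.mk' N with hπ
      have hcen : Subgroup.center (G ⧸ N) ⊔ Subgroup.zpowers (π g) = ⊤ := by
        rw [eq_top_iff]
        have h1 : (⊤ : Subgroup (G ⧸ N)) = H.map π := by
          rw [htop, ← MonoidHom.range_eq_map]
          exact (MonoidHom.range_eq_top.mpr (QuotientGroup.mk'_surjective N)).symm
        rw [h1, hH, Subgroup.map_sup]
        apply sup_le_sup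
        · rw [Subgroup.map_le_iff_le_comap]
          exact inf_le_right
        · rw [MonoidHom.map_zpowers]
      rw [_root_.commutator_def, Subgroup.commutator_le]
      intro a _ b _
      have hab := ZINDEP_aux_comm (π g) hcen (π a) (π b)
      have : π ⁅a, b⁆ = 1 := by
        rw [map_commutatorElement, commutatorElement_eq_one_iff_mul_comm]
        exact hab
      rw [hπ, QuotientGroup.mk'_apply, QuotientGroup.eq_one_iff] at this
      exact this
  obtain ⟨ψ, hψ, hHψ⟩ := maxp hG hHtop
  refine ⟨ψ, le_sup_left.trans hHψ, ?_⟩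
  intro hle
  apply hψ
  have htop : (⊤ : Subgroup G) ≤ ψ.ker := by
    rw [← VL_aux_sup_top hg]
    exact sup_le hle (le_sup_right.trans hHψ)
  ext x
  have := htop (Subgroup.mem_top x)
  rw [MonoidHom.mem_ker] at this
  rw [this]; rfl

end Cfsg.Agent.Helper5.VL
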